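import Groth.Agent.IdemLift.Basic
import Groth.Agent.EtLiftLib.Basic
import Mathlib

/-!
Etale neighbourhoods over which a finite-modulo-`I` algebra becomes finite.
-/

set_option autoImplicit false
set_option linter.style.haveILetI false

namespace Groth.Agent.EtFinNbhd

open Polynomial TensorProduct
open scoped Pointwise

universe u

variable {A : Type u} [CommRing A] (I : Ideal A)

/-- A retraction modulo `I` extends along localisation at an element mapping to `1`. -/
theorem away_retract {R T : Type u} [CommRing R] [CommRing T] [Algebra A R] [Algebra A T]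
    (π : R →ₐ[A] T) (hπ : ∀ x, π x = 0 → x ∈ I.map (algebraMap A R))
    (hI : ∀ i ∈ I, algebraMap A T i = 0) (a : R) (ha : π a = 1) :
    ∃ π' : Localization.Away a →ₐ[A] T, (∀ x : R, π' (algebraMap R _ x) = π x) ∧
      (∀ x, π' x = 0 → x ∈ I.map (algebraMap A (Localization.Away a))) ∧
      ∀ i ∈ I.map (algebraMap A (Localization.Away a)), π' i = 0 := by
  have hu : IsUnit (π.toRingHom a) := by
    rw [AlgHom.toRingHom_eq_coe, RingHom.coe_coe, ha]; exact isUnit_one
  let π₀ := IsLocalization.Away.lift (S := Localization.Away a) a (g := π.toRingHom) hu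
  have hπ₀ : ∀ x : R, π₀ (algebraMap R _ x) = π x := fun x => IsLocalization.Away.lift_eq a hu x
  let π' : Localization.Away a →ₐ[A] T :=
    AlgHom.mk' π₀ fun c x => by
      show π₀ (c • x) = c • π₀ x
      rw [Algebra.smul_def, Algebra.smul_def, map_mul, IsScalarTower.algebraMap_apply A R (Localization.Away a),
        hπ₀, π.commutes]
  refine ⟨π', hπ₀, fun x hx => ?_, fun i hi => ?_⟩
  · obtain ⟨n, y, hy⟩ := IsLocalization.Away.surj a x
    have h : π y = 0 := by
      rw [← hπ₀ y, ← hy, map_mul, show π₀ x = 0 from hx, zero_mul]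
    have h2 := Ideal.mem_map_of_mem (algebraMap R (Localization.Away a)) (hπ y h)
    rw [Ideal.map_map, ← IsScalarTower.algebraMap_eq, ← hy] at h2
    exact (Ideal.mul_unit_mem_iff_mem _ (IsLocalization.Away.algebraMap_pow_isUnit a n)).1
      (by simpa using h2)
  · have : I.map (algebraMap A (Localization.Away a)) ≤ RingHom.ker π' :=
      Ideal.map_le_iff_le_comap.2 fun i hi => by
        show π' (algebraMap A _ i) = 0
        rw [π'.commutes, hI i hi]
    exact this hi

/-- Splitting `F ≡ X^n (X-1)^n` on an etale neighbourhood. -/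
theorem exists_split (F : A[X]) (hF : F.Monic) (n : ℕ)
    (hFI : F.map (Ideal.Quotient.mk I) = X ^ n * (X - 1) ^ n) :
    ∃ (A' : Type u) (_ : CommRing A') (_ : Algebra A A') (π : A' →ₐ[A] A ⧸ I), Algebra.Etale A A' ∧
      (∀ x, π x = 0 ↔ x ∈ I.map (algebraMap A A')) ∧
      ∃ G H a b : A'[X], F.map (algebraMap A A') = G * H ∧ a * G + b * H = 1 ∧ IsUnit (H.coeff 0) ∧
        H.map π.toRingHom = (X - 1) ^ n := by
  have hcop : IsCoprime (X : (A ⧸ I)[X]) (X - 1) := ⟨1, -1, by ring⟩
  obtain ⟨A₁, _, _, het, hbij, G, H, -, -, hGH, ⟨a, b, hab⟩, -, hH⟩ :=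
    EtLiftLib.exists_etale_lift_coprime I F hF (X ^ n) ((X - 1) ^ n) (monic_X.pow _)
      ((monic_X_sub_C (1 : A ⧸ I)).pow _) hcop.pow hFI
  let ρ := AlgEquiv.ofBijective (IsScalarTower.toAlgHom A (A ⧸ I) (A₁ ⧸ I.map (algebraMap A A₁))) hbij
  let π : A₁ →ₐ[A] A ⧸ I := ρ.symm.toAlgHom.comp (Ideal.Quotient.mkₐ A _)
  have hπ : ∀ x, π x = 0 → x ∈ I.map (algebraMap A A₁) := fun x hx => by
    have h : ρ.symm (Ideal.Quotient.mk _ x) = 0 := hx
    rw [map_eq_zero_iff _ ρ.symm.injective] at h
    exact Ideal.Quotient.eq_zero_iff_mem.1 h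
  have hHπ : H.map π.toRingHom = (X - 1) ^ n := by
    rw [show π.toRingHom = (ρ.symm.toRingEquiv.toRingHom).comp (Ideal.Quotient.mk _) from rfl,
      ← Polynomial.map_map, hH, Polynomial.map_map,
      show ρ.symm.toRingEquiv.toRingHom.comp (algebraMap (A ⧸ I) _) = RingHom.id _ from
        RingHom.ext fun x => ρ.symm_apply_apply x, Polynomial.map_id]
  let c : A₁ := (-1) ^ n * H.coeff 0
  have hc : π c = 1 := by
    have h : π (H.coeff 0) = (-1) ^ n := by
      rw [show π (H.coeff 0) = (H.map π.toRingHom).coeff 0 from (coeff_map π.toRingHom 0).symm, hHπ,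
        coeff_zero_eq_eval_zero]
      simp
    show π ((-1) ^ n * H.coeff 0) = 1
    rw [map_mul, map_pow, map_neg, map_one, h, ← mul_pow]
    simp
  obtain ⟨π', hπ', hker, hzero⟩ := away_retract I π hπ
    (fun i hi => Ideal.Quotient.eq_zero_iff_mem.2 hi) c hc
  let j := algebraMap A₁ (Localization.Away c)
  haveI : Algebra.Etale A₁ (Localization.Away c) := Algebra.Etale.of_isLocalizationAway c
  refine ⟨Localization.Away c, inferInstance, inferInstance, π', Algebra.Etale.comp A A₁ _,
    fun x => ⟨hker x, hzero x⟩, G.map j, H.map j, a.map j, b.map j, ?_, ?_, ?_, ?_⟩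
  · rw [← Polynomial.map_mul, ← hGH, Polynomial.map_map, ← IsScalarTower.algebraMap_eq]
  · rw [← Polynomial.map_mul, ← Polynomial.map_mul, ← Polynomial.map_add, hab, Polynomial.map_one]
  · rw [coeff_map]
    exact isUnit_of_mul_isUnit_right (by
      rw [← map_mul]; exact IsLocalization.Away.algebraMap_isUnit (S := Localization.Away c) c)
  · rw [Polynomial.map_map, show π'.toRingHom.comp j = π.toRingHom from RingHom.ext hπ', hHπ]

variable {B : Type u} [CommRing B] [Algebra A B]

/-- Elements of `I • integralClosure` lie in `I` times a finitely generated part. -/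
theorem exists_finset {x : integralClosure A B} (hx : x ∈ I • (⊤ : Submodule A (integralClosure A B))) :
    ∃ s : Finset B, (∀ y ∈ s, IsIntegral A y) ∧ (x : B) ∈ I • Submodule.span A (s : Set B) := by
  classical
  induction hx using Submodule.smul_induction_on' with
  | smul r hr m _ =>
    exact ⟨{(m : B)}, fun y hy => by rw [Finset.mem_singleton.1 hy]; exact m.2,
      Submodule.smul_mem_smul hr (Submodule.subset_span (by simp))⟩
  | add x _ y _ hx hy =>
    obtain ⟨s, hs, hxs⟩ := hx
    obtain ⟨t, ht, hyt⟩ := hy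
    refine ⟨s ∪ t, fun z hz => (Finset.mem_union.1 hz).elim (hs z) (ht z), ?_⟩
    exact add_mem (Submodule.smul_mono le_rfl (Submodule.span_mono (by simp)) hxs)
      (Submodule.smul_mono le_rfl (Submodule.span_mono (by simp)) hyt)

/-- A finite subalgebra with an almost idempotent denominator. -/
theorem exists_model [Algebra.FiniteType A B]
    (hfin : Module.Finite A (B ⧸ I.map (algebraMap A B))) :
    ∃ (C₀ : Subalgebra A B) (g : C₀) (q : A[X]) (n : ℕ), Module.Finite A C₀ ∧ q.Monic ∧ 1 ≤ n ∧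
      q.map (Ideal.Quotient.mk I) = X ^ n ∧ aeval (g * g - g) q = 0 ∧
      (g : B) - 1 ∈ I.map (algebraMap A B) ∧ ∀ b : B, b ∈ Algebra.adjoin A
        {y : B | ∃ N : ℕ, (g : B) ^ N * y ∈ C₀} := by
  classical
  obtain ⟨g, hidem, hg1, hbij⟩ := IdemLift.exists_idempotent_lift I (1 : B) (by simp)
    (by
      rw [show I.map (algebraMap A B) ⊔ Ideal.span {(1 : B) - 1} = I.map (algebraMap A B) by simp]
      exact hfin)
  obtain ⟨s, hs⟩ := Algebra.FiniteType.out (R := A) (A := B)
  have hgood : ∀ b : B, ∃ N : ℕ, (g : B) ^ N * b ∈ integralClosure A B := by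
    intro b
    obtain ⟨y, hy⟩ := hbij.2 (algebraMap B _ b)
    obtain ⟨N, c, hc⟩ := IsLocalization.Away.surj g y
    have hmem : ∀ k : ℕ, ((g : B) ^ k) ∈ integralClosure A B := fun k => pow_mem g.2 k
    set S' := Localization (Algebra.algebraMapSubmonoid B (Submonoid.powers g))
    have h2 := congrArg (algebraMap (Localization.Away g) S') hc
    have hmap : ∀ x : integralClosure A B,
        algebraMap (Localization.Away g) S' (algebraMap _ _ x) = algebraMap B S' x := fun x => by
      haveI : IsLocalization ((Submonoid.powers g).map (algebraMap (integralClosure A B) B)) S' :=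
        inferInstanceAs (IsLocalization (Algebra.algebraMapSubmonoid B (Submonoid.powers g)) S')
      exact IsLocalization.map_eq _ x
    rw [map_mul, hy, map_pow, hmap, hmap, ← map_pow, ← map_mul] at h2
    obtain ⟨⟨_, _, ⟨k, rfl⟩, rfl⟩, hk⟩ :=
      IsLocalization.exists_of_eq (M := Algebra.algebraMapSubmonoid B (Submonoid.powers g)) h2
    refine ⟨k + N, ?_⟩
    have hk' : (g : B) ^ k * (b * (g : B) ^ N) = (g : B) ^ k * (c : B) := by
      simpa [map_pow] using hk
    rw [pow_add, mul_assoc, mul_comm _ b, hk']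
    exact mul_mem (hmem k) c.2
  choose N hN using hgood
  obtain ⟨t, ht, hgt⟩ := exists_finset I (x := g * g - g) (by
    have h := Ideal.Quotient.eq.1 hidem.eq
    rw [Ideal.smul_top_eq_map]
    exact h)
  let S : Finset B := insert (g : B) (t ∪ s.image fun b => (g : B) ^ N b * b)
  let C₀ := Algebra.adjoin A (S : Set B)
  haveI hC₀ : Module.Finite A C₀ := ⟨(Submodule.fg_top _).2 (fg_adjoin_of_finite S.finite_toSet fun y hy => by
    simp only [S, Finset.coe_insert, Set.mem_insert_iff, Finset.mem_coe, Finset.mem_union, Finset.mem_image] at hy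
    obtain rfl | hy | ⟨b, -, rfl⟩ := hy
    · exact g.2
    · exact ht y hy
    · exact hN b)⟩
  let g₀ : C₀ := ⟨g, Algebra.subset_adjoin (by simp [S])⟩
  let φ := Algebra.lmul A C₀ (g₀ * g₀ - g₀)
  have hrange : LinearMap.range φ ≤ I • (⊤ : Submodule A C₀) := by
    rintro _ ⟨y, rfl⟩
    have hmem : g₀ * g₀ - g₀ ∈ I • (⊤ : Submodule A C₀) := by
      have hle : Submodule.span A (t : Set B) ≤ Subalgebra.toSubmodule C₀ :=
        Submodule.span_le.2 fun y hy => Algebra.subset_adjoin (by simp [S, Finset.mem_coe.1 hy])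
      have h : (g₀ * g₀ - g₀ : C₀).1 ∈ (I • (⊤ : Submodule A C₀)).map C₀.val.toLinearMap := by
        rw [Submodule.map_smul'', Submodule.map_top,
          show LinearMap.range C₀.val.toLinearMap = Subalgebra.toSubmodule C₀ by ext; simp]
        exact Submodule.smul_mono le_rfl hle hgt
      obtain ⟨z, hz, hzx⟩ := h
      exact (Subtype.ext hzx : z = g₀ * g₀ - g₀) ▸ hz
    rw [Ideal.smul_top_eq_map] at hmem ⊢
    exact Ideal.mul_mem_right y _ hmem
  obtain ⟨q, hq, -, hcoeff, hzero⟩ :=
    LinearMap.exists_monic_and_natDegree_eq_and_coeff_mem_pow_and_aeval_eq_zero A φ I hrange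
  refine ⟨C₀, g₀, X * q, q.natDegree + 1, hC₀, monic_X.mul hq, Nat.le_add_left _ _, ?_, ?_, ?_, fun b => ?_⟩
  · rw [Polynomial.map_mul, map_X, pow_succ']
    congr 1
    ext k
    rw [coeff_map, coeff_X_pow]
    split_ifs with hk
    · rw [hk, hq.coeff_natDegree, map_one]
    · rw [Ideal.Quotient.eq_zero_iff_mem]
      by_cases hlt : k < q.natDegree
      · exact Ideal.pow_le_self (Nat.sub_ne_zero_of_lt hlt) (hcoeff k)
      · rw [coeff_eq_zero_of_natDegree_lt (by omega)]; exact zero_mem _
  · have h : φ (1 : C₀) = g₀ * g₀ - g₀ := mul_one _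
    have h' := congrArg (fun z => z (1 : C₀)) hzero
    rw [map_mul, aeval_X]
    rw [aeval_algHom_apply (Algebra.lmul A C₀)] at h'
    simp at h'
    rw [h', mul_zero]
  · exact Ideal.Quotient.eq.1 (by simpa using hg1)
  · have : Algebra.adjoin A (s : Set B) ≤ Algebra.adjoin A {y : B | ∃ N : ℕ, (g₀ : B) ^ N * y ∈ C₀} :=
      Algebra.adjoin_mono fun y hy => ⟨N y, Algebra.subset_adjoin (by
        simp only [S, Finset.coe_insert, Finset.coe_union, Finset.coe_image]
        exact Or.inr (Or.inr ⟨y, hy, rfl⟩))⟩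
    exact this (hs ▸ Algebra.mem_top)

/-- The main statement. -/
theorem exists_finite_nbhd [Algebra.FiniteType A B]
    (hfin : Module.Finite A (B ⧸ I.map (algebraMap A B))) :
    ∃ (A' : Type u) (_ : CommRing A') (_ : Algebra A A') (_ : Algebra.Etale A A') (C : Type u) (_ : CommRing C)
      (_ : Algebra A C) (_ : Algebra A' C) (_ : Algebra B C) (_ : IsScalarTower A A' C) (_ : IsScalarTower A B C),
      Function.Surjective ((Ideal.Quotient.mk (Ideal.map (algebraMap A A') I)).comp (algebraMap A A')) ∧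
      RingHom.ker ((Ideal.Quotient.mk (Ideal.map (algebraMap A A') I)).comp (algebraMap A A')) = I ∧
      Algebra.Etale B C ∧ Module.Finite A' C ∧
      Function.Surjective ((Ideal.Quotient.mk (Ideal.map (algebraMap A C) I)).comp (algebraMap B C)) ∧
      RingHom.ker ((Ideal.Quotient.mk (Ideal.map (algebraMap A C) I)).comp (algebraMap B C)) =
        Ideal.map (algebraMap A B) I := by
  obtain ⟨C₀, g, q, n, hC₀, hqm, hn, hqI, hq, hg1, hgen⟩ := exists_model I hfin
  let F : A[X] := q.comp (X ^ 2 - X)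
  have hFm : F.Monic := by
    nontriviality A
    refine hqm.comp (monic_X_pow_sub (by simp)) ?_
    rw [natDegree_sub_eq_left_of_natDegree_lt (by simp)]
    simp
  have hFI : F.map (Ideal.Quotient.mk I) = X ^ n * (X - 1) ^ n := by
    rw [Polynomial.map_comp, hqI, Polynomial.map_sub, Polynomial.map_pow, map_X, pow_comp, X_comp,
      show (X ^ 2 - X : (A ⧸ I)[X]) = X * (X - 1) by ring, mul_pow]
  have hFg : aeval g F = 0 := by
    rw [aeval_comp]
    simpa [pow_two] using hq
  obtain ⟨A', _, _, π, het, hπ, G, H, a, b, hGH, hab, hH0, hHπ⟩ := exists_split I F hFm n hFI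
  let IB := I.map (algebraMap A B)
  let R := B ⊗[A] A'
  let ι : A' →ₐ[A] R := Algebra.TensorProduct.includeRight
  let γ : R := (g : B) ⊗ₜ 1
  let u : R := γ * eval₂ ι.toRingHom γ (a * G)
  let ρ : R →ₐ[A] B ⧸ IB := Algebra.TensorProduct.productMap (Ideal.Quotient.mkₐ A IB)
    ((Ideal.Quotient.liftₐ I (Algebra.ofId A (B ⧸ IB)) fun i hi => by
      show Ideal.Quotient.mk IB (algebraMap A B i) = 0
      exact Ideal.Quotient.eq_zero_iff_mem.2 (Ideal.mem_map_of_mem _ hi)).comp π)
  have hρ : ∀ y : R, ∃ b₀ : B, y - b₀ ⊗ₜ 1 ∈ I.map (algebraMap A R) := by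
    intro y
    induction y using TensorProduct.induction_on with
    | zero => exact ⟨0, by simp⟩
    | tmul b₁ a₁ =>
      obtain ⟨c, hc⟩ := Ideal.Quotient.mk_surjective (π a₁)
      refine ⟨c • b₁, ?_⟩
      have h : a₁ - algebraMap A A' c ∈ I.map (algebraMap A A') := (hπ _).1 (by
        rw [map_sub, π.commutes, ← hc]; exact sub_self _)
      have h2 := Ideal.mul_mem_left _ (b₁ ⊗ₜ[A] (1 : A')) (Ideal.mem_map_of_mem ι.toRingHom h)
      rw [Ideal.map_map, show ι.toRingHom.comp (algebraMap A A') = algebraMap A R from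
        RingHom.ext ι.commutes] at h2
      convert h2 using 1
      show b₁ ⊗ₜ[A] a₁ - (c • b₁) ⊗ₜ[A] (1 : A') = b₁ ⊗ₜ 1 * ((1 : B) ⊗ₜ (a₁ - algebraMap A A' c))
      rw [Algebra.TensorProduct.tmul_mul_tmul, mul_one, one_mul, TensorProduct.tmul_sub, Algebra.algebraMap_eq_smul_one,
        TensorProduct.tmul_smul, TensorProduct.smul_tmul']
    | add y z hy hz =>
      obtain ⟨b₁, h₁⟩ := hy
      obtain ⟨b₂, h₂⟩ := hz
      exact ⟨b₁ + b₂, by simpa [TensorProduct.add_tmul, sub_add_sub_comm] using add_mem h₁ h₂⟩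
  have hIT : ∀ i ∈ I, algebraMap A (B ⧸ IB) i = 0 := fun i hi =>
    Ideal.Quotient.eq_zero_iff_mem.2 (Ideal.mem_map_of_mem _ hi)
  have hρI : ∀ y ∈ I.map (algebraMap A R), ρ y = 0 := fun y hy =>
    (Ideal.map_le_iff_le_comap.2 (fun i hi => (ρ.commutes i).trans (hIT i hi)) :
      I.map (algebraMap A R) ≤ RingHom.ker ρ) hy
  have hρb : ∀ b₀ : B, ρ (b₀ ⊗ₜ 1) = Ideal.Quotient.mk IB b₀ := fun b₀ =>
    Algebra.TensorProduct.productMap_left_apply _ _ b₀
  have hρker : ∀ y, ρ y = 0 → y ∈ I.map (algebraMap A R) := fun y hy => by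
    obtain ⟨b₀, hb₀⟩ := hρ y
    have h := hρI _ hb₀
    rw [map_sub, hy, zero_sub, neg_eq_zero, hρb, Ideal.Quotient.eq_zero_iff_mem] at h
    have h2 := Ideal.mem_map_of_mem (Algebra.TensorProduct.includeLeft : B →ₐ[A] R).toRingHom h
    rw [Ideal.map_map, show (Algebra.TensorProduct.includeLeft : B →ₐ[A] R).toRingHom.comp (algebraMap A B)
      = algebraMap A R from RingHom.ext fun x => (Algebra.TensorProduct.includeLeft : B →ₐ[A] R).commutes x] at h2
    simpa using add_mem hb₀ h2
  have hρu : ρ u = 1 := by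
    have hγ : ρ γ = 1 := by
      rw [hρb, ← map_one (Ideal.Quotient.mk IB)]
      exact Ideal.Quotient.eq.2 hg1
    let ψ := (Ideal.Quotient.liftₐ I (Algebra.ofId A (B ⧸ IB)) fun i hi => hIT i hi).toRingHom
    have hρι : ρ.toRingHom.comp ι.toRingHom = ψ.comp π.toRingHom := RingHom.ext fun x => by
      show ρ ((1 : B) ⊗ₜ[A] x) = _
      rw [Algebra.TensorProduct.productMap_right_apply]
      rfl
    have key : ∀ p : A'[X], ρ (eval₂ ι.toRingHom γ p) = ψ ((p.map π.toRingHom).eval 1) := fun p => by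
      rw [show ρ (eval₂ ι.toRingHom γ p) = eval₂ (ρ.toRingHom.comp ι.toRingHom) (ρ γ) p from
        hom_eval₂ p ι.toRingHom ρ.toRingHom γ, hρι, hγ, eval_map, hom_eval₂, map_one]
    rw [map_mul, hγ, one_mul, key]
    have h := congrArg (fun p => ψ ((p.map π.toRingHom).eval 1)) hab
    simp only [Polynomial.map_add, Polynomial.map_mul, hHπ, eval_add, eval_mul, eval_pow, eval_sub, eval_X, eval_one,
      sub_self, zero_pow (Nat.one_le_iff_ne_zero.1 hn), mul_zero, add_zero, Polynomial.map_one, map_one] at h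
    simpa only [Polynomial.map_mul, eval_mul] using h
  obtain ⟨ρ', hρ', hker', hzero'⟩ := away_retract I ρ hρker hIT u hρu
  let C := Localization.Away u
  letI : Algebra A' C := ((algebraMap R C).comp ι.toRingHom).toAlgebra
  haveI : IsScalarTower A A' C := IsScalarTower.of_algebraMap_eq fun x => by
    show algebraMap A C x = algebraMap R C (ι (algebraMap A A' x))
    rw [ι.commutes, ← IsScalarTower.algebraMap_apply]
  have hbc : ∀ b₀ : B, algebraMap B C b₀ = algebraMap R C (b₀ ⊗ₜ 1) := fun _ => rfl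
  haveI : IsScalarTower A B C := IsScalarTower.of_algebraMap_eq fun x => by
    rw [hbc, IsScalarTower.algebraMap_apply A R C]
    rfl
  haveI hetC : Algebra.Etale B C :=
    haveI : Algebra.Etale A A' := het
    haveI : Algebra.Etale R C := Algebra.Etale.of_isLocalizationAway u
    Algebra.Etale.comp B R C
  refine ⟨A', inferInstance, inferInstance, het, C, inferInstance, inferInstance, inferInstance, inferInstance,
    inferInstance, inferInstance, ?_, ?_, hetC, ?_, ?_, ?_⟩
  · intro x
    obtain ⟨x, rfl⟩ := Ideal.Quotient.mk_surjective x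
    obtain ⟨c, hc⟩ := Ideal.Quotient.mk_surjective (π x)
    refine ⟨c, Ideal.Quotient.eq.2 ((hπ _).1 ?_)⟩
    rw [map_sub, π.commutes, ← hc]; exact sub_self _
  · ext i
    rw [RingHom.mem_ker, RingHom.comp_apply, Ideal.Quotient.eq_zero_iff_mem, ← hπ, π.commutes]
    exact Ideal.Quotient.eq_zero_iff_mem
  · let v : C₀ →ₐ[A] C := (IsScalarTower.toAlgHom A B C).comp C₀.val
    let ψ : A' ⊗[A] C₀ →ₐ[A'] C := Algebra.TensorProduct.lift (Algebra.ofId A' C) v fun _ _ => Commute.all _ _
    suffices hψ : Function.Surjective ψ by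
      haveI := hC₀
      exact Module.Finite.of_surjective ψ.toLinearMap hψ
    intro z
    show z ∈ ψ.range
    have hscal : ∀ x : A', algebraMap A' C x ∈ ψ.range := fun x => ψ.range.algebraMap_mem x
    have hv : ∀ c : C₀, algebraMap B C c ∈ ψ.range := fun c => ⟨1 ⊗ₜ c, by simp [ψ, v]⟩
    let γC := algebraMap B C g
    have hev : ∀ p : A'[X], algebraMap R C (eval₂ ι.toRingHom γ p) = aeval γC p := fun p => by
      rw [hom_eval₂, aeval_def]
      rfl
    have hmem : ∀ p : A'[X], aeval γC p ∈ ψ.range := fun p => by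
      obtain ⟨c, hc⟩ := hv g
      exact ⟨aeval c p, by
        show ψ (aeval c p) = _
        rw [← aeval_algHom_apply, show ψ c = γC from hc]⟩
    have hF0 : aeval γC (F.map (algebraMap A A')) = 0 := by
      rw [aeval_map_algebraMap, show γC = v g from rfl, aeval_algHom_apply, hFg, map_zero]
    have huC : IsUnit (aeval γC (a * G)) ∧ IsUnit γC := by
      have h := IsLocalization.Away.algebraMap_isUnit (S := C) u
      rw [map_mul, IsUnit.mul_iff, hev] at h
      exact ⟨h.2, h.1⟩
    have hH : aeval γC H = 0 := huC.1.mul_left_cancel (by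
      rw [mul_zero, ← map_mul, mul_assoc, ← hGH, map_mul, hF0, mul_zero])
    have haG : aeval γC (a * G) = 1 := by
      have := congrArg (aeval γC) hab
      rwa [map_add, map_mul (aeval γC) b H, hH, mul_zero, add_zero, map_one] at this
    obtain ⟨h₀, hh₀⟩ := hH0
    let w := -(algebraMap A' C (h₀⁻¹ : A'ˣ).1 * aeval γC H.divX)
    have hw : γC * w = 1 := by
      have h := hH
      rw [← X_mul_divX_add H, map_add, map_mul, aeval_X, aeval_C, ← hh₀, add_eq_zero_iff_eq_neg] at h
      rw [show γC * w = -(γC * aeval γC H.divX * algebraMap A' C (h₀⁻¹ : A'ˣ).1) by ring, h, neg_mul, neg_neg,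
        ← map_mul, Units.mul_inv, map_one]
    have hwmem : w ∈ ψ.range := neg_mem (mul_mem (hscal _) (hmem _))
    have hB : ∀ b₀ : B, algebraMap B C b₀ ∈ ψ.range := by
      intro b₀
      let P : Subalgebra A B := (ψ.range.restrictScalars A).comap (IsScalarTower.toAlgHom A B C)
      have : Algebra.adjoin A {y : B | ∃ N : ℕ, (g : B) ^ N * y ∈ C₀} ≤ P :=
        Algebra.adjoin_le fun y ⟨N, hy⟩ => by
          show algebraMap B C y ∈ ψ.range
          have h := mul_mem (hv ⟨_, hy⟩) (pow_mem hwmem N)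
          rwa [show algebraMap B C ((g : B) ^ N * y) * w ^ N = algebraMap B C y by
            rw [map_mul, map_pow, mul_comm (algebraMap B C (g : B) ^ N) _, mul_assoc, ← mul_pow,
              show algebraMap B C (g : B) * w = 1 from hw, one_pow, mul_one]] at h
      exact this (hgen b₀)
    have hR : ∀ y : R, algebraMap R C y ∈ ψ.range := by
      intro y
      induction y using TensorProduct.induction_on with
      | zero => rw [map_zero]; exact zero_mem _
      | tmul b₁ a₁ =>
        rw [show b₁ ⊗ₜ[A] a₁ = b₁ ⊗ₜ[A] (1 : A') * ι a₁ by simp [ι, R], map_mul]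
        exact mul_mem (hB b₁) (hscal a₁)
      | add y z hy hz => rw [map_add]; exact add_mem hy hz
    obtain ⟨m, y, hy⟩ := IsLocalization.Away.surj u z
    have huγ : algebraMap R C u = γC := by
      rw [map_mul, hev, haG, mul_one]; rfl
    rw [huγ] at hy
    have := mul_mem (hR y) (pow_mem hwmem m)
    rwa [← hy, mul_assoc, ← mul_pow, hw, one_pow, mul_one] at this
  · intro x
    obtain ⟨x, rfl⟩ := Ideal.Quotient.mk_surjective x
    obtain ⟨b₀, hb₀⟩ := Ideal.Quotient.mk_surjective (ρ' x)
    refine ⟨b₀, Ideal.Quotient.eq.2 (hker' _ ?_)⟩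
    rw [map_sub, hbc, hρ', hρb, hb₀, sub_self]
  · ext b₀
    rw [RingHom.mem_ker, RingHom.comp_apply, Ideal.Quotient.eq_zero_iff_mem]
    refine ⟨fun h => ?_, fun h => ?_⟩
    · have := hzero' _ h
      rwa [hbc, hρ', hρb, Ideal.Quotient.eq_zero_iff_mem] at this
    · apply hker'
      rw [hbc, hρ', hρb, Ideal.Quotient.eq_zero_iff_mem]
      exact h

end Groth.Agent.EtFinNbhd
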